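import Cfsg.Agent.Mrg.Omega.NO3S.OneQ.POne


/-!
# NO-3S, `OneQ`, case (TR), the end (bb OMEGA #20607 (3.5), #21079): the element `n`

* `Dat.exists_n` : some `n ∈ C_G(W_Z)` has `n² ∈ V - Z`;
* `Dat.exists_b` : some `b ∈ C_G(W_Y)` has `b² ∈ W_Y - E_Y`.
-/

set_option autoImplicit false
set_option linter.unusedSectionVars false

namespace Cfsg.Agent.Omega.NO3S.OneQ.TrE

open Subgroup Cfsg.Agent.Omega.NO3S.PT Cfsg.Agent.Omega.NoFF.Basic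
open scoped Pointwise

universe u

variable {G : Type u} [Group G]
variable [Finite G] {F : Type*} [Field F] [CharP F 2] {S : Sylow 2 G} {B P V Z : Subgroup G}
  {h : Co F S B P V Z} {D : Dat h}

theorem Dat.Lab.pt {a b : F} {w : G} (hw : D.Lab a b w) : ∃ X, Pnt V Z X ∧ w ∈ ws V X := by
  obtain ⟨g, hg, w₀, hw₀, -, -, rfl⟩ := hw
  refine ⟨PT.cj g Z, h.one.self.conj (h.one.pl.XV_le_N hg), ?_⟩
  rw [ws_cj]
  exact conj_mem_cj hw₀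

theorem Dat.Lab.dd {a b : F} {w d : G} (hw : D.Lab a b w) (hd : d ∈ dd V Z Z) : d * w = w * d := by
  obtain ⟨X, hX, hwX⟩ := hw.pt
  by_cases hXZ : X = Z
  · subst hXZ
    exact h.one.comm_W hX.cj (dd_le hd) hwX
  · exact h.one.dd_comm hX hXZ hd hwX

theorem Dat.Lab.cV {a b : F} {w v : G} (hw : D.Lab a b w) (hv : v ∈ V) : w * v = v * w := by
  obtain ⟨X, hX, hwX⟩ := hw.pt
  exact h.one.cent_V (h.one.W_le_cent hX hwX) hv

theorem Dat.Lab.sq {a b : F} {w : G} (hw : D.Lab a b w) : w * w = 1 := by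
  obtain ⟨X, hX, hwX⟩ := hw.pt
  exact h.one.sq_W hX hwX

namespace Dat

variable (D)
include D

theorem exists_lab (a : F) {b : F} (hb : b ≠ 0) : ∃ w, D.Lab a b w := by
  obtain ⟨w₀, hw₀, hφ⟩ := D.surj 1
  obtain ⟨τ, hτ⟩ := h.exists_tor hb
  refine ⟨_, h.kp (a * b⁻¹) * h.sw * τ, mul_mem (mul_mem (h.kp_XV _) h.sw_XV) hτ.mem, w₀, hw₀, hφ, ?_, rfl⟩
  have e : h.kp (a * b⁻¹) * h.sw * τ * h.e 1 0 * (h.kp (a * b⁻¹) * h.sw * τ)⁻¹ =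
      h.kp (a * b⁻¹) * (h.sw * (τ * h.e 1 0 * τ⁻¹) * h.sw⁻¹) * (h.kp (a * b⁻¹))⁻¹ := by group
  rw [e, hτ.act, h.sw_act, h.kp_act, mul_one, mul_zero, zero_add, mul_assoc, inv_mul_cancel₀ hb, mul_one]

theorem lab_W {w : G} (hw : w ∈ ws V Z) (hφ : D.φ w ≠ 0) : D.Lab (D.θ (D.φ w) * (D.φ w)⁻¹) 0 w := by
  set t := D.φ w with ht
  have hθt : D.θ t ≠ 0 := fun e => hφ ((map_eq_zero D.θ).1 e)
  set c := D.θ t * t⁻¹ with hc
  have hc0 : c ≠ 0 := mul_ne_zero hθt (inv_ne_zero hφ)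
  obtain ⟨τ, hτ⟩ := h.exists_tor hc0
  have hτ' := hτ.inv hc0
  have h1 : τ⁻¹ * w * τ⁻¹⁻¹ ∈ ws V Z := h.W_conj (hτ'.norm_Z (inv_ne_zero hc0)) hw
  have hcc : c * D.θ c = t := by
    rw [hc, map_mul, map_inv₀, D.θθ]
    field_simp
  refine ⟨τ, hτ.mem, _, h1, ?_, ?_, by group⟩
  · rw [D.tor hτ' (inv_ne_zero hc0) hw, map_inv₀, ← mul_inv, hcc, ← ht, inv_mul_cancel₀ hφ]
  · rw [hτ.act, mul_one, mul_zero]

omit D in
omit [Finite G] in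
/-- `w₁ w₂ w₃` commutes with `u` if `[u, w₁][u, w₂][u, w₃] = 1` -/
theorem _root_.Cfsg.Agent.Omega.NO3S.OneQ.TrE.comm3 {u w₁ w₂ w₃ : G} (c₂ : G) (c₃ : G) (h1 : c₂ = u * w₂ * u⁻¹ * w₂⁻¹)
    (h2 : c₃ = u * w₃ * u⁻¹ * w₃⁻¹) (h3 : w₁ * c₂ = c₂ * w₁) (h4 : w₁ * c₃ = c₃ * w₁) (h5 : w₂ * c₃ = c₃ * w₂)
    (h6 : u * w₁ * u⁻¹ * w₁⁻¹ * c₂ * c₃ = 1) : u * (w₁ * w₂ * w₃) = w₁ * w₂ * w₃ * u := by
  have e1 : u * w₂ = c₂ * w₂ * u := by rw [h1]; group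
  have e2 : u * w₃ = c₃ * w₃ * u := by rw [h2]; group
  calc u * (w₁ * w₂ * w₃) = u * w₁ * u⁻¹ * w₁⁻¹ * (w₁ * (u * w₂) * w₃) := by group
    _ = u * w₁ * u⁻¹ * w₁⁻¹ * ((w₁ * c₂) * w₂ * (u * w₃)) := by rw [e1]; group
    _ = u * w₁ * u⁻¹ * w₁⁻¹ * (c₂ * w₁ * w₂ * (c₃ * w₃ * u)) := by rw [h3, e2]
    _ = u * w₁ * u⁻¹ * w₁⁻¹ * c₂ * (w₁ * (w₂ * c₃)) * w₃ * u := by group
    _ = u * w₁ * u⁻¹ * w₁⁻¹ * c₂ * ((w₁ * c₃) * w₂) * w₃ * u := by rw [h5]; group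
    _ = u * w₁ * u⁻¹ * w₁⁻¹ * c₂ * c₃ * (w₁ * w₂ * w₃) * u := by rw [h4]; group
    _ = w₁ * w₂ * w₃ * u := by rw [h6]; group

omit D in
omit [Finite G] in
/-- the square of `w₁ w₂ w₃` -/
theorem _root_.Cfsg.Agent.Omega.NO3S.OneQ.TrE.sq3 {w₁ w₂ w₃ : G} (c₂₁ c₃₁ c₃₂ : G) (h21 : c₂₁ = w₂ * w₁ * w₂⁻¹ * w₁⁻¹)
    (h31 : c₃₁ = w₃ * w₁ * w₃⁻¹ * w₁⁻¹) (h32 : c₃₂ = w₃ * w₂ * w₃⁻¹ * w₂⁻¹)
    (a1 : w₁ * c₃₁ = c₃₁ * w₁) (a2 : w₂ * c₃₁ = c₃₁ * w₂) (b1 : w₁ * c₃₂ = c₃₂ * w₁) (b2 : w₂ * c₃₂ = c₃₂ * w₂)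
    (d1 : w₁ * c₂₁ = c₂₁ * w₁) (s1 : w₁ * w₁ = 1) (s2 : w₂ * w₂ = 1) (s3 : w₃ * w₃ = 1) :
    w₁ * w₂ * w₃ * (w₁ * w₂ * w₃) = c₃₁ * c₃₂ * c₂₁ := by
  have e1 : w₃ * w₁ = c₃₁ * w₁ * w₃ := by rw [h31]; group
  have e2 : w₃ * w₂ = c₃₂ * w₂ * w₃ := by rw [h32]; group
  have e3 : w₂ * w₁ = c₂₁ * w₁ * w₂ := by rw [h21]; group
  calc w₁ * w₂ * w₃ * (w₁ * w₂ * w₃) = w₁ * w₂ * (w₃ * w₁) * w₂ * w₃ := by group
    _ = w₁ * (w₂ * c₃₁) * w₁ * w₃ * w₂ * w₃ := by rw [e1]; group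
    _ = (w₁ * c₃₁) * w₂ * w₁ * w₃ * w₂ * w₃ := by rw [a2]; group
    _ = c₃₁ * w₁ * w₂ * w₁ * (w₃ * w₂) * w₃ := by rw [a1]; group
    _ = c₃₁ * w₁ * w₂ * (w₁ * c₃₂) * w₂ * (w₃ * w₃) := by rw [e2]; group
    _ = c₃₁ * w₁ * (w₂ * c₃₂) * w₁ * w₂ := by rw [b1, s3]; group
    _ = c₃₁ * (w₁ * c₃₂) * w₂ * w₁ * w₂ := by rw [b2]; group
    _ = c₃₁ * c₃₂ * w₁ * (w₂ * w₁) * w₂ := by rw [b1]; group
    _ = c₃₁ * c₃₂ * (w₁ * c₂₁) * w₁ * (w₂ * w₂) := by rw [e3]; group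
    _ = c₃₁ * c₃₂ * c₂₁ * (w₁ * w₁) := by rw [d1, s2]; group
    _ = c₃₁ * c₃₂ * c₂₁ := by rw [s1, mul_one]

/-- **some `n ∈ C_G(W_Z)` has `n² ∈ V - Z`** -/
theorem exists_n {s : F} (hs0 : s ≠ 0) (hs1 : s ≠ 1) :
    ∃ n ∈ centralizer ((ws V Z : Subgroup G) : Set G), n * n ∈ V ∧ n * n ∉ Z := by
  set T := D.θ s with hT
  have h2 : (2 : F) = 0 := CharTwo.two_eq_zero
  have hθT : D.θ T = s * s := D.θθ s
  have hT1 : T ≠ 1 := fun e => hs1 (D.θ.injective (by rw [map_one]; exact e))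
  have hs1' : 1 + s ≠ 0 := fun e => hs1 (by
    have := CharTwo.add_eq_zero.1 e
    exact this.symm)
  have hT1' : 1 + T ≠ 0 := fun e => hT1 (by
    have := CharTwo.add_eq_zero.1 e
    exact this.symm)
  have hT0 : T ≠ 0 := fun e => hs0 ((map_eq_zero D.θ).1 e)
  set b₂ := T * s⁻¹ with hb₂
  set b₃ := (1 + T) * (1 + s)⁻¹ with hb₃
  have hb₂0 : b₂ ≠ 0 := mul_ne_zero hT0 (inv_ne_zero hs0)
  have hb₃0 : b₃ ≠ 0 := mul_ne_zero hT1' (inv_ne_zero hs1')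
  have hB₂ : b₂ * D.θ b₂ = s := by
    rw [hb₂, map_mul, map_inv₀, hθT, ← hT]
    field_simp
  have hs12 : (1 : F) + s * s = (1 + s) * (1 + s) := by
    linear_combination (-s) * h2
  have hB₃ : b₃ * D.θ b₃ = 1 + s := by
    rw [hb₃, map_mul, map_inv₀, map_add, map_add, map_one, hθT, ← hT, hs12]
    field_simp
  have hsb₂ : s * b₂ = T := by rw [hb₂]; field_simp
  have hsb₃ : (1 + s) * b₃ = 1 + T := by rw [hb₃]; field_simp
  obtain ⟨w₁, h1⟩ := D.exists_lab s (one_ne_zero (α := F))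
  obtain ⟨w₂, h2'⟩ := D.exists_lab 1 hb₂0
  obtain ⟨w₃, h3⟩ := D.exists_lab 0 hb₃0
  refine ⟨w₁ * w₂ * w₃, ?_, ?_⟩
  · rw [mem_centralizer_iff]
    intro u hu
    by_cases hφ : D.φ u = 0
    · have hd := (D.zero hu).1 hφ
      rw [← mul_assoc, ← mul_assoc, h1.dd hd, mul_assoc w₁ u, h2'.dd hd, ← mul_assoc w₁, mul_assoc (w₁ * w₂) u, h3.dd hd]
      group
    · have hu' := D.lab_W hu hφ
      set c := D.θ (D.φ u) * (D.φ u)⁻¹ with hc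
      have e1 := hu'.com h1
      have e2 := hu'.com h2'
      have e3 := hu'.com h3
      refine comm3 _ _ rfl rfl ?_ ?_ ?_ ?_
      · rw [e2]; exact h1.cV (h.e_memV _ _)
      · rw [e3]; exact h1.cV (h.e_memV _ _)
      · rw [e3]; exact h2'.cV (h.e_memV _ _)
      · rw [e1, e2, e3, ← h.e_add, ← h.e_add, h.e_eq_one]
        simp only [zero_mul, add_zero, zero_add, mul_one, map_mul]
        constructor
        · have : D.κ * (c * D.θ c) * (c + s) + D.κ * (c * b₂ * (D.θ c * D.θ b₂)) * (c + 1) +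
              D.κ * (c * b₃ * (D.θ c * D.θ b₃)) * c =
              D.κ * (c * D.θ c) * ((c + s) + (b₂ * D.θ b₂) * (c + 1) + (b₃ * D.θ b₃) * c) := by ring
          rw [this, hB₂, hB₃]
          linear_combination (D.κ * (c * D.θ c) * (c + s + s * c)) * h2
        · have : D.κ * (c * D.θ c) + D.κ * (c * b₂ * (D.θ c * D.θ b₂)) * b₂ +
              D.κ * (c * b₃ * (D.θ c * D.θ b₃)) * b₃ =
              D.κ * (c * D.θ c) * (1 + (b₂ * D.θ b₂) * b₂ + (b₃ * D.θ b₃) * b₃) := by ring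
          rw [this, hB₂, hB₃, hsb₂, hsb₃]
          linear_combination (D.κ * (c * D.θ c) * (1 + T)) * h2
  · have e1 := h2'.com h1
    have e2 := h3.com h1
    have e3 := h3.com h2'
    have key := sq3 (w₁ := w₁) (w₂ := w₂) (w₃ := w₃) _ _ _ rfl rfl rfl
      (by rw [e2]; exact h1.cV (h.e_memV _ _)) (by rw [e2]; exact h2'.cV (h.e_memV _ _))
      (by rw [e3]; exact h1.cV (h.e_memV _ _)) (by rw [e3]; exact h2'.cV (h.e_memV _ _))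
      (by rw [e1]; exact h1.cV (h.e_memV _ _)) h1.sq h2'.sq h3.sq
    rw [key, e1, e2, e3, ← h.e_add, ← h.e_add]
    refine ⟨h.e_memV _ _, ?_⟩
    rw [h.e_memZ_iff]
    simp only [zero_mul, zero_add, mul_one, map_mul]
    have hd21 : (1 : F) + b₂ * s = 1 + T := by rw [mul_comm b₂, hsb₂]
    have hθd : D.θ (1 + T) = 1 + s * s := by rw [map_add, map_one, hθT]
    rw [hd21, hθd, ← hT]
    have h5 : D.κ * (b₃ * s * (D.θ b₃ * T)) * (b₃ + 1) + D.κ * (b₃ * D.θ b₃) * (b₃ + b₂) +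
        D.κ * ((1 + T) * (1 + s * s)) * (b₂ + 1) =
        D.κ * (s * T * ((b₃ * D.θ b₃) * b₃ + b₃ * D.θ b₃) + ((b₃ * D.θ b₃) * b₃ + (b₃ * D.θ b₃) * b₂) +
          ((1 + T) * (1 + s * s)) * (b₂ + 1)) := by ring
    rw [h5, hB₃, hsb₃]
    intro h6
    rcases mul_eq_zero.1 h6 with h7 | h7
    · exact D.κ0 h7
    have h8 : (s + T) * (s * s + T) = 0 := by
      have h9 : s * (s * T * ((1 + T) + (1 + s)) + ((1 + T) + (1 + s) * b₂) + ((1 + T) * (1 + s * s)) * (b₂ + 1)) = 0 := by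
        rw [h7, mul_zero]
      have h10 : s * (s * T * ((1 + T) + (1 + s)) + ((1 + T) + (1 + s) * b₂) + ((1 + T) * (1 + s * s)) * (b₂ + 1)) =
          s * (s * T * ((1 + T) + (1 + s)) + (1 + T)) + (1 + s) * (s * b₂) +
            ((1 + T) * (1 + s * s)) * (s * b₂ + s) := by ring
      rw [h10, hsb₂] at h9
      linear_combination h9 + (-(s * s * T) - s * s * T * T - s * s * s * T - s * T - T - s) * h2
    rcases mul_eq_zero.1 h8 with h9 | h9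
    · have h10 : T = s := (CharTwo.add_eq_zero.1 h9).symm
      have h11 : s * s = s := by rw [← hθT, h10, ← hT, h10]
      exact hs1 (mul_left_cancel₀ hs0 (by rw [h11, mul_one]))
    · have h10 : T = s * s := (CharTwo.add_eq_zero.1 h9).symm
      have h11 : s * s = T * T := by rw [← hθT, h10, map_mul, ← hT, h10]
      rw [h10] at h11
      have h12 : s * s = 1 := by
        have h13 : s * s * (s * s) = s * s * 1 := by rw [mul_one]; exact h11.symm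
        exact mul_left_cancel₀ (mul_ne_zero hs0 hs0) h13
      have h14 : (1 + s) * (1 + s) = 0 := by rw [← hs12, h12]; linear_combination h2
      exact hs1' (mul_self_eq_zero.1 h14)

/-- a line on `Z` which is not in `D_Z` meets `D_Z` in `Z` -/
theorem line_dd {c u : G} (hc : c ∈ centralizer (Z : Set G)) (hL : ¬ PT.cj c V ≤ dd V Z Z) (hu : u ∈ V) (huZ : u ∉ Z) :
    c * u * c⁻¹ ∉ dd V Z Z := by
  intro hcu
  apply hL
  intro x hx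
  rw [mem_cj] at hx
  set v := c⁻¹ * x * c with hv
  have hxv : x = c * v * c⁻¹ := by rw [hv]; group
  obtain ⟨t, ht⟩ := h.exists_scal hu huZ hx
  have huW : u ∈ ws V Z := h.one.V_le_W' hu
  have hvW : v ∈ ws V Z := h.one.V_le_W' hx
  have hcN : c ∈ normalizer (Z : Set G) := centralizer_le_normalizer _ hc
  have h1 : D.φ (c * v * c⁻¹) = t * D.φ (c * u * c⁻¹) := by
    refine D.lin (h.W_conj hcN huW) (h.W_conj hcN hvW) fun k hk => ?_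
    rw [h.fn_conj hc hvW hk, h.fn_conj hc huW hk, ht _ (h.K_conj hcN hk)]
  rw [(D.zero (h.W_conj hcN huW)).2 hcu, mul_zero] at h1
  rw [hxv]
  exact (D.zero (h.W_conj hcN hvW)).1 h1

/-- **some `b ∈ C_G(W_Y)` has `b² ∈ W_Y - E_Y`** -/
theorem exists_b {s : F} (hs0 : s ≠ 0) (hs1 : s ≠ 1) :
    ∃ b ∈ centralizer ((ws V h.Yp : Subgroup G) : Set G), b * b ∈ ws V h.Yp ∧ b * b ∉ ee V Z h.Yp := by
  obtain ⟨n, hn, hnV, hnZ⟩ := D.exists_n hs0 hs1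
  -- a line on `Z` outside `D_Z`
  obtain ⟨c, hc, hL⟩ : ∃ c ∈ centralizer (Z : Set G), ¬ PT.cj c V ≤ dd V Z Z := by
    by_contra hcon
    push Not at hcon
    apply h.one.ee_ne h.one.self
    rw [D.ee_dd]
    refine le_antisymm dd_le (ws_le fun L hL hZL => ?_)
    obtain ⟨c, hc, rfl⟩ := h.line_eq hL hZL
    exact hcon c hc
  have hcN : c ∈ normalizer (Z : Set G) := centralizer_le_normalizer _ hc
  have h1 : c * (n * n) * c⁻¹ ∉ ee V Z Z := by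
    rw [D.ee_dd]
    exact D.line_dd hc hL hnV hnZ
  have h2 : c * n * c⁻¹ ∈ centralizer ((ws V Z : Subgroup G) : Set G) := by
    have := conj_mem_cj (g := c) hn
    rwa [cj_centralizer, cj_eq_iff.2 (normalizer_le_ws V Z hcN)] at this
  have h3 : c * (n * n) * c⁻¹ ∈ ws V Z := h.W_conj hcN (h.one.V_le_W' hnV)
  refine ⟨h.sw * (c * n * c⁻¹) * h.sw⁻¹, ?_, ?_, ?_⟩
  · rw [← h.cj_sw, ws_cj, ← cj_centralizer]
    exact conj_mem_cj h2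
  · have e : h.sw * (c * n * c⁻¹) * h.sw⁻¹ * (h.sw * (c * n * c⁻¹) * h.sw⁻¹) = h.sw * (c * (n * n) * c⁻¹) * h.sw⁻¹ := by
      group
    rw [e]
    exact h.sw_W h3
  · have e : h.sw * (c * n * c⁻¹) * h.sw⁻¹ * (h.sw * (c * n * c⁻¹) * h.sw⁻¹) = h.sw * (c * (n * n) * c⁻¹) * h.sw⁻¹ := by
      group
    rw [e, h.sw_ee]
    exact h1

end Dat

end Cfsg.Agent.Omega.NO3S.OneQ.TrE
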