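import Cfsg.Agent.Mrg.Omega.NO3S.OneQ.TrE.End
import Cfsg.Agent.Mrg.Omega.NO3S.OneQ.TRp.Sys
import Cfsg.Agent.Mrg.Omega.NO3S.OneQ.KOneTIG

section


/-!
# NO-3S, `OneQ`, case (TR), the last contradiction (bb OMEGA #20975 (III), #21376)

`Co.tr_end` : `TRp.Sys` with `v c = c v₀`, `Φ c` = the functionals of `c W_Y c⁻¹`, `TRp.Inj`, and an element
`b ∈ C_G(W_Y)` with `b² ∈ W_Y - E_Y` : contradiction.
-/

set_option autoImplicit false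
set_option linter.unusedSectionVars false

namespace Cfsg.Agent.Omega.NO3S.OneQ

open Subgroup Cfsg.Agent.Omega.NO3S.PT Cfsg.Agent.Omega.NoFF.Basic
open scoped Pointwise

universe u

variable {G : Type u} [Group G]

namespace Co

variable [Finite G] {F : Type*} [Field F] [CharP F 2] {S : Sylow 2 G} {B P V Z : Subgroup G} (h : Co F S B P V Z)

/-- (TR) `[W_Z, W_Y] ≤ V` : the elements of `W_Y` are transvections of `MF` -/
theorem tr_phi (htr : ∀ w ∈ ws V Z, ∀ u ∈ ws V h.Yp, w * u * w⁻¹ * u⁻¹ ∈ V) {u : G} (hu : u ∈ ws V h.Yp) :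
    ∃ φ : Module.Dual F h.MF, ∀ m, h.rz ⟨u, h.one.W_le_C h.pY hu⟩ m = m + φ m • h.v0 := by
  have huC := h.one.W_le_C h.pY hu
  have h1 : ∀ m, (h.rz ⟨u, huC⟩ - 1) m ∈ h.lam := by
    intro m
    obtain ⟨w, rfl⟩ := h.fm_surj m
    obtain ⟨x, hx, hxe, e⟩ := h.rp_W h.pY h.Yp_ne hu w
    have e' : (h.rz ⟨u, huC⟩ - 1) (h.fm w) = h.fm ⟨x, h.one.I_le_W' hx⟩ := e
    rw [e', h.fm_mem_lam_I hx, hxe]
    have h2 := inv_mem (htr w w.2 u hu)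
    have e3 : ((w : G) * u * (w : G)⁻¹ * u⁻¹)⁻¹ = u * w * u⁻¹ * (w : G)⁻¹ := by group
    rwa [e3] at h2
  let T : h.MF →ₗ[F] h.lam := LinearMap.codRestrict h.lam (h.rz ⟨u, huC⟩ - 1) h1
  let E : F ≃ₗ[F] h.lam := LinearEquiv.toSpanNonzeroSingleton F h.MF h.v0 h.v0_ne
  refine ⟨(E.symm : h.lam →ₗ[F] F) ∘ₗ T, fun m => ?_⟩
  have h2 : E (E.symm (T m)) = T m := E.apply_symm_apply _
  have h3 : ((E (E.symm (T m)) : h.lam) : h.MF) = E.symm (T m) • h.v0 := rfl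
  have h4 : ((T m : h.lam) : h.MF) = h.rz ⟨u, huC⟩ m - m := rfl
  rw [h2, h4] at h3
  show h.rz ⟨u, huC⟩ m = m + E.symm (T m) • h.v0
  rw [← h3, add_sub_cancel]

/-- an element of `W_Y` which is trivial on `MF` is in `E_Y` -/
theorem mem_ee_of_rz {u : G} (hu : u ∈ ws V h.Yp) (h1 : ∀ m, h.rz ⟨u, h.one.W_le_C h.pY hu⟩ m = m) :
    u ∈ ee V Z h.Yp := by
  refine h.one.mem_ee_of h.pY h.one.self h.Yp_ne.symm hu fun w hw => ?_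
  obtain ⟨x, hx, hxe, e⟩ := h.rp_W h.pY h.Yp_ne hu ⟨w, hw⟩
  have e' : h.rz ⟨u, h.one.W_le_C h.pY hu⟩ (h.fm ⟨w, hw⟩) - h.fm ⟨w, hw⟩ = h.fm ⟨x, h.one.I_le_W' hx⟩ := e
  rw [h1, sub_self] at e'
  have h2 := (h.fm_eq_zero _).1 e'.symm
  have h3 : x ∈ Z := h.rd_inf_I ⟨h2, hx⟩
  rwa [hxe] at h3

/-- **the end of (TR)** -/
theorem tr_end [Finite F] (htr : ∀ w ∈ ws V Z, ∀ u ∈ ws V h.Yp, w * u * w⁻¹ * u⁻¹ ∈ V)
    {v : centralizer (Z : Set G) → h.MF} {Φ : centralizer (Z : Set G) → AddSubgroup (Module.Dual F h.MF)}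
    (hv : ∀ c, v c = h.rz c h.v0)
    (hΦ : ∀ c φ, φ ∈ Φ c ↔ ∃ a : centralizer (Z : Set G), (a : G) ∈ ws V h.Yp ∧
      ∀ m, h.rz (c * a * c⁻¹) m = m + φ m • v c)
    (Sy : TRp.Sys F v Φ) (hI : TRp.Inj v Φ) {b : G} (hb : b ∈ centralizer ((ws V h.Yp : Subgroup G) : Set G))
    (hb2 : b * b ∈ ws V h.Yp) (hbE : b * b ∉ ee V Z h.Yp) : False := by
  have : Finite h.MF := inferInstance
  have hv1 : v 1 = h.v0 := by rw [hv, map_one]; rfl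
  have hbV : b ∈ centralizer (V : Set G) := centralizer_le (h.one.V_le_W h.pY) hb
  have hbC : b ∈ centralizer (Z : Set G) := centralizer_le h.one.pl.ZV hbV
  set β : centralizer (Z : Set G) := ⟨b, hbC⟩ with hβ
  -- `g`
  let g : h.MF ≃ₗ[F] h.MF := LinearEquiv.ofLinearMap (h.rz β) (h.rz β⁻¹)
    (by ext1 m; rw [LinearMap.comp_apply]; exact Mix.r_inv_apply h.rz β m)
    (by ext1 m; rw [LinearMap.comp_apply]; exact Mix.r_inv_apply' h.rz β m)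
  have hg : ∀ m, g m = h.rz β m := fun _ => rfl
  have hgs : ∀ m, g.symm m = h.rz β⁻¹ m := fun _ => rfl
  -- `f`
  obtain ⟨f, hf, hf0⟩ := Sy.exists_ne 1
  obtain ⟨m, hm⟩ := Sy.exists_hyp hf0
  have h1m : TRp.Hyp v Φ 1 m := ⟨f, hf, hm⟩
  obtain ⟨f, hf, hfm⟩ := Sy.surj hI h1m 1
  obtain ⟨fs, hfs, hfs1⟩ := Sy.surj hI (Sy.symm h1m) 1
  have hf0 : f ≠ 0 := by
    rintro rfl
    rw [LinearMap.zero_apply] at hfm
    exact zero_ne_one hfm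
  have hgo : g (v 1) = v 1 := by
    rw [hg, hv1]
    exact h.rp_cV hbV
  have hgf : ∀ w, f (g w) = f w := by
    intro w
    obtain ⟨a, ha, hae⟩ := (hΦ 1 f).1 hf
    have hab : β * a = a * β := Subtype.ext (mem_centralizer_iff.1 hb _ ha).symm
    have h1 : h.rz a w = w + f w • v 1 := by
      have := hae w
      rwa [one_mul, inv_one, mul_one] at this
    have h1' : h.rz a (g w) = g w + f (g w) • v 1 := by
      have := hae (g w)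
      rwa [one_mul, inv_one, mul_one] at this
    have h2 : g (h.rz a w) = h.rz a (g w) := by
      rw [hg, hg, ← Mix.r_mul, ← Mix.r_mul, hab]
    rw [h1, h1', map_add, map_smul, hgo, add_right_inj] at h2
    have h3 : v 1 ≠ 0 := by rw [hv1]; exact h.v0_ne
    exact smul_left_injective F h3 h2.symm
  have hk : v (β * m) = g (v m) := by rw [hv, hv, hg, Mix.r_mul]
  have hk' : fs ∘ₗ (g.symm : h.MF →ₗ[F] h.MF) ∈ Φ (β * m) := by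
    rw [hΦ]
    obtain ⟨a, ha, hae⟩ := (hΦ m fs).1 hfs
    refine ⟨a, ha, fun x => ?_⟩
    have e : β * m * a * (β * m)⁻¹ = β * (m * a * m⁻¹) * β⁻¹ := by group
    rw [e, Mix.r_mul, Mix.r_mul, ← hgs, hae, ← hg, map_add, map_smul, LinearEquiv.apply_symm_apply, hk]
    rfl
  -- `g²`
  obtain ⟨φ, hφ⟩ := h.tr_phi htr hb2
  have hββ : (⟨b * b, h.one.W_le_C h.pY hb2⟩ : centralizer (Z : Set G)) = β * β := rfl
  have hφΦ : φ ∈ Φ 1 := by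
    rw [hΦ]
    refine ⟨⟨b * b, h.one.W_le_C h.pY hb2⟩, hb2, fun x => ?_⟩
    rw [one_mul, inv_one, mul_one, hφ, hv1]
  obtain ⟨s, hs⟩ := Sy.prop hI hf hf0 hφΦ
  have h0 : s = 0 := by
    refine Sy.end_sq hI hf hfm hfs hfs1 g hgo hgf hk hk' (s := s) fun w => ?_
    have h1 := hφ w
    rw [hββ, Mix.r_mul] at h1
    rw [hg, hg, h1, hs, hv1]
    rfl
  refine hbE (h.mem_ee_of_rz hb2 fun x => ?_)
  rw [hφ, hs, h0, zero_smul, LinearMap.zero_apply, zero_smul, add_zero]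

end Co

end Cfsg.Agent.Omega.NO3S.OneQ

end

section


/-!
# NO-3S, `OneQ`, case (TR): the torus numbers (bb OMEGA #20607 (3.4), #21595)

`PreDat h` : a functional `f ≠ 0` of `MF` and `δ : F ≃+ F` such that `w'^n` acts on `MF` as
`1 + δ(f(w')) f ⊗ v₀` for `w' ∈ W_Z`.

* `PreDat.zero`, `PreDat.ee_dd` : `f(w) = 0` iff `w ∈ D_Z = E_Z`; `PreDat.com` : the commutator formula;
* `PreDat.scal` : `g ∈ N_G(V)` which acts on `Z` as a scalar multiplies `f` by a scalar;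
* `PreDat.rel_tor` : `δ(μ a) = μ ζ δ(a)`; `PreDat.rel_h` : `δ(c a) = c⁻¹ μ δ(a)`;
* `PreDat.toDat` : `TrE.Dat h`.
-/

set_option autoImplicit false
set_option linter.unusedSectionVars false

namespace Cfsg.Agent.Omega.NO3S.OneQ.TrE

open Subgroup Cfsg.Agent.Omega.NO3S.PT Cfsg.Agent.Omega.NoFF.Basic
open scoped Pointwise

universe u

variable {G : Type u} [Group G]

/-- a functional and `δ` -/
structure PreDat [Finite G] {F : Type*} [Field F] [CharP F 2] {S : Sylow 2 G} {B P V Z : Subgroup G}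
    (h : Co F S B P V Z) where
  f : Module.Dual F h.MF
  f0 : f ≠ 0
  δ : F ≃+ F
  ag : ∀ (w : G) (hw : w ∈ ws V Z) (m : h.MF),
    h.rz ⟨h.sw * w * h.sw⁻¹, h.one.W_le_C h.pY (h.sw_W hw)⟩ m = m + (δ (f (h.fm ⟨w, hw⟩)) * f m) • h.v0

namespace PreDat

variable [Finite G] {F : Type*} [Field F] [CharP F 2] {S : Sylow 2 G} {B P V Z : Subgroup G}
  {h : Co F S B P V Z} (D : PreDat h)

open Classical in
/-- the functional on `W_Z` -/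
noncomputable def φ (g : G) : F := if hg : g ∈ ws V Z then D.f (h.fm ⟨g, hg⟩) else 0

theorem φ_eq {w : G} (hw : w ∈ ws V Z) : D.φ w = D.f (h.fm ⟨w, hw⟩) := dif_pos hw

theorem φ_mul {w w' : G} (hw : w ∈ ws V Z) (hw' : w' ∈ ws V Z) : D.φ (w * w') = D.φ w + D.φ w' := by
  rw [D.φ_eq hw, D.φ_eq hw', D.φ_eq (mul_mem hw hw'), ← map_add, ← h.fm_mul]
  rfl

theorem exists_one : ∃ m, D.f m = 1 := by
  obtain ⟨m, hm⟩ : ∃ m, D.f m ≠ 0 := by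
    by_contra hcon
    push Not at hcon
    exact D.f0 (LinearMap.ext hcon)
  exact ⟨(D.f m)⁻¹ • m, by rw [map_smul, smul_eq_mul, inv_mul_cancel₀ hm]⟩

theorem φ_surj (a : F) : ∃ w ∈ ws V Z, D.φ w = a := by
  obtain ⟨m, hm⟩ := D.exists_one
  obtain ⟨w, hw⟩ := h.fm_surj (a • m)
  refine ⟨w, w.2, ?_⟩
  rw [D.φ_eq w.2]
  show D.f (h.fm w) = a
  rw [hw, map_smul, hm, smul_eq_mul, mul_one]

theorem φ_lin {w w' : G} {c : F} (hw : w ∈ ws V Z) (hw' : w' ∈ ws V Z)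
    (hc : ∀ k ∈ kx V Z, h.fn w' k = c * h.fn w k) : D.φ w' = c * D.φ w := by
  rw [D.φ_eq hw, D.φ_eq hw', ← smul_eq_mul, ← map_smul]
  congr 1
  exact Subtype.ext (funext fun k => hc k k.2)

/-- the second coordinate of the commutator -/
theorem comY {w w' : G} (hw : w ∈ ws V Z) (hw' : w' ∈ ws V Z) :
    ∃ x, w * (h.sw * w' * h.sw⁻¹) * w⁻¹ * (h.sw * w' * h.sw⁻¹)⁻¹ = h.e x (D.δ (D.φ w') * D.φ w) := by
  obtain ⟨x, hx, hxe, e⟩ := h.rp_W h.pY h.Yp_ne (h.sw_W hw') ⟨w, hw⟩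
  have e' : h.rz ⟨h.sw * w' * h.sw⁻¹, h.one.W_le_C h.pY (h.sw_W hw')⟩ (h.fm ⟨w, hw⟩) - h.fm ⟨w, hw⟩ =
    h.fm ⟨x, h.one.I_le_W' hx⟩ := e
  rw [D.ag w' hw', add_sub_cancel_left, ← D.φ_eq hw, ← D.φ_eq hw', ← h.fm_e 0] at e'
  have h1 := (h.fm_I_eq (h.one.pl.V_le_IV (h.e_memV 0 _)) hx).1 e'
  obtain ⟨a, ha⟩ := (h.mem_Z _).1 h1
  refine ⟨a, ?_⟩
  have h2 : x = h.e a (D.δ (D.φ w') * D.φ w) := by
    have h3 : x = (h.e a 0)⁻¹ * h.e 0 (D.δ (D.φ w') * D.φ w) := by rw [ha]; group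
    rw [h3, h.e_inv, ← h.e_add, add_zero, zero_add]
  rw [← h.e_inv, ← h2, hxe]
  show _ = (h.sw * w' * h.sw⁻¹ * w * (h.sw * w' * h.sw⁻¹)⁻¹ * w⁻¹)⁻¹
  group

theorem ee_φ {w : G} (hw : w ∈ ee V Z Z) : D.φ w = 0 := by
  obtain ⟨w₂, hw₂, h2⟩ := D.φ_surj 1
  obtain ⟨x, hx⟩ := D.comY hw₂ (ee_le hw)
  have h3 := h.one.ee_act' h.one.self h.Yp_ne.symm (h.sw_ee.2 hw) hw₂
  rw [hx, h.e_memZ_iff, h2, mul_one] at h3
  exact (map_eq_zero_iff D.δ D.δ.injective).1 h3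

theorem φ_dd {w : G} (hw : w ∈ ws V Z) (h0 : D.φ w = 0) : w ∈ dd V Z Z := by
  have h1 : h.sw * w * h.sw⁻¹ ∈ ee V Z h.Yp := by
    refine h.one.mem_ee_of h.pY h.one.self h.Yp_ne.symm (h.sw_W hw) fun u hu => ?_
    obtain ⟨x, hx⟩ := D.comY hu hw
    rw [h0, map_zero, zero_mul] at hx
    have h2 : u * (h.sw * w * h.sw⁻¹) * u⁻¹ * (h.sw * w * h.sw⁻¹)⁻¹ ∈ Z := by
      rw [hx]; exact h.e_memZ x
    have h3 := inv_mem h2
    have e : (u * (h.sw * w * h.sw⁻¹) * u⁻¹ * (h.sw * w * h.sw⁻¹)⁻¹)⁻¹ =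
        h.sw * w * h.sw⁻¹ * u * (h.sw * w * h.sw⁻¹)⁻¹ * u⁻¹ := by group
    rwa [e] at h3
  have hwE := h.sw_ee.1 h1
  refine h.one.mem_dd_of h.one.self h.pY h.Yp_ne hw fun u hu => ?_
  have hu' := h.sw_inv_W hu
  have eu : h.sw * (h.sw⁻¹ * u * h.sw) * h.sw⁻¹ = u := by group
  obtain ⟨x, hx⟩ := D.comY hw hu'
  rw [h0, mul_zero, eu] at hx
  have h2 : w * u * w⁻¹ * u⁻¹ ∈ Z ⊓ h.Yp := ⟨by rw [hx]; exact h.e_memZ x, h.one.ee_act h.pY h.Yp_ne hwE hu⟩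
  rw [h.one.pl.pts_inf h.one.self.cj h.pY.cj h.Yp_ne.symm, mem_bot, mul_inv_eq_one, mul_inv_eq_iff_eq_mul] at h2
  exact h2

theorem zero {w : G} (hw : w ∈ ws V Z) : D.φ w = 0 ↔ w ∈ dd V Z Z :=
  ⟨D.φ_dd hw, fun h1 => D.ee_φ (h.one.dd_le_ee h.one.self h1)⟩

include D in
theorem ee_dd : ee V Z Z = dd V Z Z :=
  le_antisymm (fun _ hw => D.φ_dd (ee_le hw) (D.ee_φ hw)) (h.one.dd_le_ee h.one.self)

theorem φ_yl {k w : G} (hk : k ∈ yl V Z) (hw : w ∈ ws V Z) :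
    k * w * k⁻¹ ∈ ws V Z ∧ D.φ (k * w * k⁻¹) = D.φ w := by
  have h1 := h.one.yl_ee h.one.self hk hw
  have e : k * w * k⁻¹ = k * w * k⁻¹ * w⁻¹ * w := by group
  refine ⟨by rw [e]; exact mul_mem (ee_le h1) hw, ?_⟩
  rw [e, D.φ_mul (ee_le h1) hw, D.ee_φ h1, zero_add]

/-- the commutator formula -/
theorem com {w w' : G} (hw : w ∈ ws V Z) (hw' : w' ∈ ws V Z) :
    w * (h.sw * w' * h.sw⁻¹) * w⁻¹ * (h.sw * w' * h.sw⁻¹)⁻¹ =
      h.e (D.δ (D.φ w) * D.φ w') (D.δ (D.φ w') * D.φ w) := by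
  obtain ⟨x, hx⟩ := D.comY hw hw'
  obtain ⟨x', hx'⟩ := D.comY hw' hw
  set u := h.sw * w' * h.sw⁻¹ with hu
  set a := h.sw * w * h.sw⁻¹ with ha
  -- conjugate by `sw`
  have h1 : h.sw * (w * u * w⁻¹ * u⁻¹) * h.sw⁻¹ = h.e (D.δ (D.φ w') * D.φ w) x := by rw [hx, h.sw_act]
  obtain ⟨hW2, -⟩ := D.φ_yl h.sw_sq hw'
  have hd : h.sw * u * h.sw⁻¹ * w'⁻¹ ∈ dd V Z Z := by
    rw [← D.ee_dd]
    have h2 := h.one.yl_ee h.one.self h.sw_sq hw'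
    have e : h.sw * h.sw * w' * (h.sw * h.sw)⁻¹ * w'⁻¹ = h.sw * u * h.sw⁻¹ * w'⁻¹ := by rw [hu]; group
    rwa [e] at h2
  set d := h.sw * u * h.sw⁻¹ * w'⁻¹ with hddef
  have haY : a ∈ ws V h.Yp := h.sw_W hw
  have hda : d * a = a * d := h.one.dd_comm h.pY h.Yp_ne hd haY
  have h3 : h.sw * (w * u * w⁻¹ * u⁻¹) * h.sw⁻¹ = a * (d * w') * a⁻¹ * (d * w')⁻¹ := by rw [hddef, ha]; group
  have h4 : a * (d * w') * a⁻¹ * (d * w')⁻¹ = d * (w' * a * w'⁻¹ * a⁻¹)⁻¹ * d⁻¹ := by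
    calc a * (d * w') * a⁻¹ * (d * w')⁻¹ = (a * d) * w' * a⁻¹ * w'⁻¹ * d⁻¹ := by group
      _ = d * (w' * a * w'⁻¹ * a⁻¹)⁻¹ * d⁻¹ := by rw [← hda]; group
  have hdV : d ∈ centralizer (V : Set G) := h.one.W_le_cent h.one.self (dd_le hd)
  rw [h3, h4, hx', h.e_inv, h.comm_e hdV] at h1
  obtain ⟨-, h5⟩ := h.e_inj h1
  rw [hx, ← h5]

/-- an element of `N_G(V)` which acts on `Z` as a scalar multiplies `f` by a scalar -/
theorem scal {g : G} (hg : g ∈ h.hat) (hgV : g ∈ normalizer (V : Set G)) :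
    ∃ μ : F, μ ≠ 0 ∧ ∀ w ∈ ws V Z, g * w * g⁻¹ ∈ ws V Z ∧ D.φ (g * w * g⁻¹) = μ * D.φ w := by
  have hgN := h.hat_norm hg
  have hgd : PT.cj g (dd V Z Z) = dd V Z Z := by rw [cj_dd hgV, cj_eq_iff.2 hgN]
  have hf : ∀ w (hw : w ∈ ws V Z), D.f (h.rp ⟨g, hg⟩ (h.fm ⟨w, hw⟩)) = D.φ (g * w * g⁻¹) := by
    intro w hw
    rw [h.rp_fm' hg hw, D.φ_eq (h.W_conj hgN hw)]
  have hk : ∀ m, D.f m = 0 → D.f (h.rp ⟨g, hg⟩ m) = 0 := by
    intro m hm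
    obtain ⟨⟨w, hw⟩, rfl⟩ := h.fm_surj m
    rw [hf w hw, D.zero (h.W_conj hgN hw), ← hgd]
    exact conj_mem_cj ((D.zero hw).1 (by rw [D.φ_eq hw, hm]))
  obtain ⟨m₀, hm₀⟩ := D.exists_one
  have hμ : ∀ m, D.f (h.rp ⟨g, hg⟩ m) = D.f (h.rp ⟨g, hg⟩ m₀) * D.f m := by
    intro m
    have h1 := hk (m - D.f m • m₀) (by rw [map_sub, map_smul, hm₀, smul_eq_mul, mul_one, sub_self])
    rw [map_sub, map_sub, map_smul, map_smul, sub_eq_zero, smul_eq_mul] at h1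
    rw [h1, mul_comm]
  refine ⟨D.f (h.rp ⟨g, hg⟩ m₀), ?_, fun w hw => ⟨h.W_conj hgN hw, ?_⟩⟩
  · intro h0
    have h1 := hμ (h.rp ⟨g, hg⟩⁻¹ m₀)
    rw [h0, zero_mul, ← Module.End.mul_apply, ← map_mul, mul_inv_cancel, map_one, Module.End.one_apply, hm₀] at h1
    exact one_ne_zero h1
  · rw [← hf w hw, hμ, ← D.φ_eq hw]

/-- the torus -/
theorem rel_tor {τ : G} {ζ : F} (hτ : h.Tor τ ζ) (hζ : ζ ≠ 0) :
    ∃ μ : F, μ ≠ 0 ∧ (∀ w ∈ ws V Z, D.φ (τ * w * τ⁻¹) = μ * D.φ w) ∧ ∀ a, D.δ (μ * a) = μ * ζ * D.δ a := by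
  obtain ⟨μ, hμ, hw⟩ := D.scal (hτ.hat hζ) hτ.norm_V
  refine ⟨μ, hμ, fun w hw' => (hw w hw').2, fun a => ?_⟩
  obtain ⟨w, hwW, hw1⟩ := D.φ_surj 1
  obtain ⟨w₂, hw₂W, hw₂⟩ := D.φ_surj a
  -- `w' = τ w₂ τ⁻¹`
  obtain ⟨hw'W, hw'⟩ := hw w₂ hw₂W
  set w' := τ * w₂ * τ⁻¹ with hw'def
  have hy : h.sw⁻¹ * τ * h.sw * τ ∈ yl V Z := by
    rw [← h.XV_cent]
    refine ⟨(XV V Z).mul_mem ((XV V Z).mul_mem ((XV V Z).mul_mem ((XV V Z).inv_mem h.sw_XV) hτ.mem) h.sw_XV) hτ.mem,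
      h.mem_cent fun x y => ?_⟩
    have e : h.sw⁻¹ * τ * h.sw * τ * h.e x y * (h.sw⁻¹ * τ * h.sw * τ)⁻¹ =
        h.sw⁻¹ * (τ * (h.sw * (τ * h.e x y * τ⁻¹) * h.sw⁻¹) * τ⁻¹) * h.sw := by group
    rw [e, hτ.act, h.sw_act, hτ.act, h.sw_act', mul_inv_cancel_left₀ hζ, inv_mul_cancel_left₀ hζ]
  obtain ⟨hyW, hyφ⟩ := D.φ_yl hy hw₂W
  set w'' := h.sw⁻¹ * τ * h.sw * τ * w₂ * (h.sw⁻¹ * τ * h.sw * τ)⁻¹ with hw''
  have h1 := D.com hwW hw'W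
  have h2 := D.com (hw w hwW).1 hyW
  have e : τ * (w * (h.sw * w' * h.sw⁻¹) * w⁻¹ * (h.sw * w' * h.sw⁻¹)⁻¹) * τ⁻¹ =
      τ * w * τ⁻¹ * (h.sw * w'' * h.sw⁻¹) * (τ * w * τ⁻¹)⁻¹ * (h.sw * w'' * h.sw⁻¹)⁻¹ := by
    rw [hw'', hw'def]; group
  rw [h1, hτ.act, h2] at e
  obtain ⟨-, h3⟩ := h.e_inj e
  rw [(hw w hwW).2, hyφ, hw', hw1, hw₂, mul_one, mul_one] at h3
  -- `ζ⁻¹ δ(μ a) = δ(a) μ`
  rw [inv_mul_eq_iff_eq_mul₀ hζ] at h3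
  rw [h3]
  ring

/-- the elements `h_c` -/
theorem diag_of {g : G} {c : F} (hg : g ∈ centralizer (Z : Set G)) (hgY : PT.cj g h.Yp = h.Yp)
    (hc : h.rz ⟨g, hg⟩ h.v0 = c • h.v0) (x y : F) : g * h.e x y * g⁻¹ = h.e x (c * y) := by
  have h1 : g * h.e x 0 * g⁻¹ = h.e x 0 := by
    rw [(mem_centralizer_iff.1 hg _ (h.e_memZ x)).symm, mul_inv_cancel_right]
  have h2 : g * h.e 0 y * g⁻¹ ∈ h.Yp := by
    rw [← hgY]
    exact conj_mem_cj (h.e_memY y)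
  obtain ⟨y', hy'⟩ := (h.mem_Yp).1 h2
  have h3 := h.rz_fm hg (h.W_V 0 y)
  rw [h.fm_e 0 y, map_smul, hc, smul_smul] at h3
  have h4 : h.fm ⟨g * h.e 0 y * g⁻¹, h.W_conj (centralizer_le_normalizer _ hg) (h.W_V 0 y)⟩ = y' • h.v0 := by
    rw [← h.fm_e 0 y']
    congr 1
    exact Subtype.ext hy'.symm
  rw [h4] at h3
  have h5 : y * c = y' := smul_left_injective F h.v0_ne h3
  have e : h.e x y = h.e x 0 * h.e 0 y := by rw [← h.e_add, add_zero, zero_add]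
  have e2 : g * (h.e x 0 * h.e 0 y) * g⁻¹ = g * h.e x 0 * g⁻¹ * (g * h.e 0 y * g⁻¹) := by group
  rw [e, e2, h1, ← hy', ← h.e_add, add_zero, zero_add, ← h5, mul_comm y c]

theorem rel_h {τ g : G} {c μ : F} (hτ : h.Tor τ c) (hc : c ≠ 0)
    (hμ : ∀ w ∈ ws V Z, D.φ (τ * w * τ⁻¹) = μ * D.φ w) (hμδ : ∀ a, D.δ (μ * a) = μ * c * D.δ a)
    (hg : g ∈ centralizer (Z : Set G)) (hgV : g ∈ normalizer (V : Set G)) (hgc : h.rz ⟨g, hg⟩ h.v0 = c • h.v0)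
    (hgf : ∀ m, D.f (h.rz ⟨g, hg⟩ m) = c⁻¹ * D.f m) (a : F) : D.δ (c * a) = c⁻¹ * μ * D.δ a := by
  -- make `g` fix `Y`
  obtain ⟨g, hg, hgV, hgc, hgf, hgY⟩ : ∃ g, ∃ hg : g ∈ centralizer (Z : Set G), g ∈ normalizer (V : Set G) ∧
      h.rz ⟨g, hg⟩ h.v0 = c • h.v0 ∧ (∀ m, D.f (h.rz ⟨g, hg⟩ m) = c⁻¹ * D.f m) ∧ PT.cj g h.Yp = h.Yp := by
    have hgZ : PT.cj g Z = Z := cj_eq_iff.2 (centralizer_le_normalizer _ hg)
    have hne : PT.cj g h.Yp ≠ Z := fun e => h.Yp_ne (cj_inj.1 (e.trans hgZ.symm))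
    obtain ⟨k, hk, hkY⟩ := h.one.move h.one.self (h.pY.conj hgV) h.pY hne h.Yp_ne
    have hkC := kx_le_cent hk
    have hkm : ∀ m, h.rz ⟨k * g, mul_mem hkC hg⟩ m = h.rz ⟨g, hg⟩ m := by
      intro m
      rw [h.rz_mul hkC hg]
      exact h.rp_K hk _
    refine ⟨k * g, mul_mem hkC hg, mul_mem (h.one.K_norm h.one.self hk) hgV, ?_, fun m => ?_, ?_⟩
    · rw [hkm, hgc]
    · rw [hkm, hgf]
    · rw [← cj_cj, hkY]
  have hact := diag_of (h := h) hg hgY hgc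
  have hk1 : ∀ x y, h.sw⁻¹ * g * h.sw * h.e x y * (h.sw⁻¹ * g * h.sw)⁻¹ = h.e (c * x) y := by
    intro x y
    have e : h.sw⁻¹ * g * h.sw * h.e x y * (h.sw⁻¹ * g * h.sw)⁻¹ = h.sw⁻¹ * (g * (h.sw * h.e x y * h.sw⁻¹) * g⁻¹) * h.sw := by
      group
    rw [e, h.sw_act, hact, h.sw_act']
  have hkV : h.sw⁻¹ * g * h.sw ∈ normalizer (V : Set G) := mul_mem (mul_mem (inv_mem h.sw_N) hgV) h.sw_N
  have hkZ : h.sw⁻¹ * g * h.sw ∈ normalizer (Z : Set G) := by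
    rw [← cj_eq_iff]
    exact h.cj_Z_of (f := fun x => c * x) (fun x => ⟨c⁻¹ * x, mul_inv_cancel_left₀ hc x⟩) fun x => hk1 x 0
  have hkh : h.sw⁻¹ * g * h.sw ∈ h.hat := ⟨hkZ, Units.mk0 c hc, fun x => hk1 x 0⟩
  obtain ⟨ν, hν, hkw⟩ := D.scal hkh hkV
  -- `φ(g w g⁻¹) = c⁻¹ φ(w)`
  have hgw : ∀ w ∈ ws V Z, g * w * g⁻¹ ∈ ws V Z ∧ D.φ (g * w * g⁻¹) = c⁻¹ * D.φ w := by
    intro w hw
    have h1 := h.W_conj (centralizer_le_normalizer _ hg) hw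
    refine ⟨h1, ?_⟩
    rw [D.φ_eq h1, D.φ_eq hw, ← hgf, h.rz_fm hg hw]
  -- `ρ`
  have hρ : g⁻¹ * τ⁻¹ * (h.sw⁻¹ * g * h.sw) ∈ yl V Z := by
    rw [← h.XV_cent]
    constructor
    · have h1 : g⁻¹ * (τ⁻¹ * h.sw⁻¹) * g⁻¹⁻¹ ∈ XV V Z :=
        (mem_normalizer_iff.1 (normalizer_le_XV V Z (inv_mem hgV)) _).1
          ((XV V Z).mul_mem ((XV V Z).inv_mem hτ.mem) ((XV V Z).inv_mem h.sw_XV))
      have e : g⁻¹ * τ⁻¹ * (h.sw⁻¹ * g * h.sw) = g⁻¹ * (τ⁻¹ * h.sw⁻¹) * g⁻¹⁻¹ * h.sw := by group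
      rw [e]
      exact (XV V Z).mul_mem h1 h.sw_XV
    · refine h.mem_cent fun x y => ?_
      have e : g⁻¹ * τ⁻¹ * (h.sw⁻¹ * g * h.sw) * h.e x y * (g⁻¹ * τ⁻¹ * (h.sw⁻¹ * g * h.sw))⁻¹ =
          g⁻¹ * (τ⁻¹ * (h.sw⁻¹ * g * h.sw * h.e x y * (h.sw⁻¹ * g * h.sw)⁻¹) * τ) * g := by group
      have e1 : τ⁻¹ * h.e (c * x) y * τ = h.e x (c * y) := by
        have h1 := hτ.act x (c * y)
        rw [inv_mul_cancel_left₀ hc] at h1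
        rw [← h1]; group
      have e2 : g⁻¹ * h.e x (c * y) * g = h.e x y := by
        rw [← hact x y]; group
      rw [e, hk1, e1, e2]
  -- `ν = μ c⁻¹`
  have hνμ : ν = μ * c⁻¹ := by
    obtain ⟨w, hwW, hw1⟩ := D.φ_surj 1
    obtain ⟨h1, h2⟩ := D.φ_yl hρ hwW
    obtain ⟨h3, h4⟩ := hgw _ h1
    have h5 := hμ _ h3
    have e : τ * (g * (g⁻¹ * τ⁻¹ * (h.sw⁻¹ * g * h.sw) * w * (g⁻¹ * τ⁻¹ * (h.sw⁻¹ * g * h.sw))⁻¹) * g⁻¹) * τ⁻¹ =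
        h.sw⁻¹ * g * h.sw * w * (h.sw⁻¹ * g * h.sw)⁻¹ := by group
    rw [e, (hkw w hwW).2, h4, h2, hw1, mul_one, mul_one] at h5
    exact h5
  -- conjugate the commutator by `g`
  have h6 : ∀ b, D.δ (ν * b) = c * c * D.δ b := by
    intro b
    obtain ⟨w, hwW, hw1⟩ := D.φ_surj 1
    obtain ⟨w', hw'W, hw'⟩ := D.φ_surj b
    have h1 := D.com hwW hw'W
    have h2 := D.com (hgw w hwW).1 (hkw w' hw'W).1
    have e : g * (w * (h.sw * w' * h.sw⁻¹) * w⁻¹ * (h.sw * w' * h.sw⁻¹)⁻¹) * g⁻¹ =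
        g * w * g⁻¹ * (h.sw * (h.sw⁻¹ * g * h.sw * w' * (h.sw⁻¹ * g * h.sw)⁻¹) * h.sw⁻¹) * (g * w * g⁻¹)⁻¹ *
          (h.sw * (h.sw⁻¹ * g * h.sw * w' * (h.sw⁻¹ * g * h.sw)⁻¹) * h.sw⁻¹)⁻¹ := by group
    rw [h1, hact, h2] at e
    obtain ⟨-, h3⟩ := h.e_inj e
    rw [(hgw w hwW).2, (hkw w' hw'W).2, hw1, hw', mul_one, mul_one] at h3
    -- `c δ(b) = δ(ν b) c⁻¹`
    rw [eq_comm, mul_inv_eq_iff_eq_mul₀ hc] at h3
    rw [h3]
    ring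
  have hμ0 : μ ≠ 0 := by
    rintro rfl
    rw [zero_mul] at hνμ
    exact hν hνμ
  -- `δ(μ c⁻¹ b) = c² δ(b)`, `b = c a`
  have h7 := h6 (c * a)
  rw [hνμ] at h7
  have e : μ * c⁻¹ * (c * a) = μ * a := by
    field_simp
  rw [e, hμδ] at h7
  -- `μ c δ(a) = c² δ(c a)`
  have h8 : c * c * (c⁻¹ * μ * D.δ a) = c * c * D.δ (c * a) := by
    rw [← h7]
    field_simp
  exact (mul_left_cancel₀ (mul_ne_zero hc hc) h8).symm

/-- **(3.4)** -/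
theorem toDat (hh : ∀ c : F, c ≠ 0 → ∃ g, ∃ hg : g ∈ centralizer (Z : Set G), g ∈ normalizer (V : Set G) ∧
    h.rz ⟨g, hg⟩ h.v0 = c • h.v0 ∧ ∀ m, D.f (h.rz ⟨g, hg⟩ m) = c⁻¹ * D.f m) : Nonempty (Dat h) := by
  have hδ1 : D.δ 1 ≠ 0 := fun e => one_ne_zero ((map_eq_zero_iff D.δ D.δ.injective).1 e)
  have key : ∀ c : F, c ≠ 0 → ∀ τ, h.Tor τ c → ∃ μ : F, (∀ w ∈ ws V Z, D.φ (τ * w * τ⁻¹) = μ * D.φ w) ∧
      (∀ a, D.δ (μ * a) = μ * c * D.δ a) ∧ ∀ a, D.δ (c * a) = c⁻¹ * μ * D.δ a := by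
    intro c hc τ hτ
    obtain ⟨μ, -, h1, h2⟩ := D.rel_tor hτ hc
    obtain ⟨g, hg, hgV, hgc, hgf⟩ := hh c hc
    exact ⟨μ, h1, h2, D.rel_h hτ hc h1 h2 hg hgV hgc hgf⟩
  have hs : ∀ c a : F, D.δ (c * a) = D.δ c / D.δ 1 * D.δ a := by
    intro c a
    by_cases hc : c = 0
    · rw [hc, zero_mul, map_zero, zero_div, zero_mul]
    obtain ⟨τ, hτ⟩ := h.exists_tor hc
    obtain ⟨μ, -, -, h3⟩ := key c hc τ hτ
    have h4 := h3 1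
    rw [mul_one] at h4
    rw [h4, h3 a, mul_div_cancel_right₀ _ hδ1]
  let θ : F →+* F :=
    { toFun := fun c => D.δ c / D.δ 1
      map_one' := div_self hδ1
      map_zero' := by rw [map_zero, zero_div]
      map_add' := fun a b => by rw [map_add, add_div]
      map_mul' := fun a b => by rw [hs a b, mul_div_assoc] }
  have hθ : ∀ c, θ c = D.δ c / D.δ 1 := fun _ => rfl
  have hδθ : ∀ c, D.δ c = D.δ 1 * θ c := fun c => by rw [hθ, mul_div_cancel₀ _ hδ1]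
  have hμ : ∀ c : F, c ≠ 0 → ∀ τ, h.Tor τ c → (∀ w ∈ ws V Z, D.φ (τ * w * τ⁻¹) = c * θ c * D.φ w) ∧
      θ (c * θ c) = c * θ c * c := by
    intro c hc τ hτ
    obtain ⟨μ, h1, h2, h3⟩ := key c hc τ hτ
    have h4 := h3 1
    rw [mul_one] at h4
    have h5 : μ = c * θ c := by
      rw [hθ, h4, mul_div_cancel_right₀ _ hδ1, ← mul_assoc, mul_inv_cancel₀ hc, one_mul]
    have h6 := h2 1
    rw [mul_one] at h6
    refine ⟨fun w hw => by rw [h1 w hw, h5], ?_⟩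
    rw [← h5, hθ, h6, mul_div_cancel_right₀ _ hδ1]
  refine ⟨⟨θ, D.δ 1, D.φ, ?_, hδ1, D.φ_mul, D.zero, D.φ_surj, D.φ_lin, ?_, D.ee_dd, ?_⟩⟩
  · intro a
    by_cases ha : a = 0
    · rw [ha, map_zero, map_zero, mul_zero]
    obtain ⟨τ, hτ⟩ := h.exists_tor ha
    have h1 := (hμ a ha τ hτ).2
    rw [map_mul] at h1
    have h2 : θ a ≠ 0 := fun e => ha ((map_eq_zero θ).1 e)
    refine mul_left_cancel₀ h2 ?_
    rw [h1]
    ring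
  · intro τ w ζ hτ hζ hw
    exact (hμ ζ hζ τ hτ).1 w hw
  · intro w w' hw hw'
    rw [D.com hw hw', hδθ (D.φ w), hδθ (D.φ w')]
    congr 1 <;> ring

end PreDat

end Cfsg.Agent.Omega.NO3S.OneQ.TrE

end

section


/-!
# NO-3S, `OneQ`, case (TR): the elements `h_c` (bb OMEGA #20607 (3.4), #21595)

* `Co.W_norm_sup` : `W_Y` normalises `V V^j`, `j ∈ C_G(Z)`;
* `Co.norm_of_scal` : `x ∈ C_G(Z)` which normalises `V V^j` and fixes the point `v₀` normalises `V` if `v₀`, `j v₀` are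
  independent;
* `Co.exists_h` : for `c ≠ 0` there is `g ∈ C_G(Z) ∩ N_G(V)`, `g v₀ = c v₀`, `f ∘ g = c⁻¹ f`.
-/

set_option autoImplicit false
set_option linter.unusedSectionVars false

namespace Cfsg.Agent.Omega.NO3S.OneQ

open Subgroup Cfsg.Agent.Omega.NO3S.PT Cfsg.Agent.Omega.NoFF.Basic
open scoped Pointwise

universe u

variable {G : Type u} [Group G]

theorem norm_of_cj_le [Finite G] {x : G} {V : Subgroup G} (hx : PT.cj x V ≤ V) : x ∈ normalizer (V : Set G) := by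
  rw [← cj_eq_iff]
  refine Subgroup.eq_of_le_of_card_ge hx ?_
  exact le_of_eq (Nat.card_congr (Subgroup.equivSMul (MulAut.conj x) V).toEquiv)

namespace Co

variable [Finite G] {F : Type*} [Field F] [CharP F 2] {S : Sylow 2 G} {B P V Z : Subgroup G} (h : Co F S B P V Z)

/-- `W_Y` normalises `V V^j` -/
theorem W_norm_sup (htr : ∀ w ∈ ws V Z, ∀ u ∈ ws V h.Yp, w * u * w⁻¹ * u⁻¹ ∈ V) {j : G}
    (hj : j ∈ centralizer (Z : Set G)) : ws V h.Yp ≤ normalizer ((V ⊔ PT.cj j V : Subgroup G) : Set G) := by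
  intro a ha
  apply norm_of_cj_le
  rw [PT.cj, Subgroup.smul_sup]
  refine sup_le ?_ ?_
  · have h1 : PT.cj a V = V := cj_eq_iff.2 (centralizer_le_normalizer _ (h.one.W_le_cent h.pY ha))
    exact (le_of_eq h1).trans le_sup_left
  · intro x hx
    have hx' : a⁻¹ * x * a ∈ PT.cj j V := mem_cj.1 hx
    set v := a⁻¹ * x * a with hv
    have hxv : x = a * v * a⁻¹ * v⁻¹ * v := by rw [hv]; group
    have hvW : v ∈ ws V Z := by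
      have h1 := hx'
      rw [mem_cj] at h1
      have h2 := h.W_conj (centralizer_le_normalizer _ hj) (h.one.V_le_W' h1)
      have e : j * (j⁻¹ * v * j) * j⁻¹ = v := by group
      rwa [e] at h2
    have h2 := inv_mem (htr v hvW a ha)
    have e : (v * a * v⁻¹ * a⁻¹)⁻¹ = a * v * a⁻¹ * v⁻¹ := by group
    rw [e] at h2
    rw [hxv]
    exact mul_mem (mem_sup_left h2) (mem_sup_right hx')

theorem Wj_norm_sup (htr : ∀ w ∈ ws V Z, ∀ u ∈ ws V h.Yp, w * u * w⁻¹ * u⁻¹ ∈ V) {j a : G}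
    (hj : j ∈ centralizer (Z : Set G)) (ha : a ∈ ws V h.Yp) :
    j * a * j⁻¹ ∈ normalizer ((V ⊔ PT.cj j V : Subgroup G) : Set G) := by
  have h1 := h.W_norm_sup htr (inv_mem hj) ha
  rw [← cj_eq_iff] at h1 ⊢
  have h2 : PT.cj j (V ⊔ PT.cj j⁻¹ V) = V ⊔ PT.cj j V := by
    rw [PT.cj, Subgroup.smul_sup]
    show PT.cj j V ⊔ PT.cj j (PT.cj j⁻¹ V) = _
    rw [cj_cj, mul_inv_cancel, cj_one, sup_comm]
  rw [← h2, cj_cj]
  have e : j * a * j⁻¹ * j = j * a := by group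
  rw [e, ← cj_cj, h1]

/-- an element which fixes the point `F v₀` -/
theorem norm_of_scal {x j : G} (hx : x ∈ centralizer (Z : Set G)) (hj : j ∈ centralizer (Z : Set G))
    (hxU : x ∈ normalizer ((V ⊔ PT.cj j V : Subgroup G) : Set G)) {c : F} (hxc : h.rz ⟨x, hx⟩ h.v0 = c • h.v0)
    {f : Module.Dual F h.MF} (hf0 : f h.v0 = 0) (hfj : f (h.rz ⟨j, hj⟩ h.v0) ≠ 0) : x ∈ normalizer (V : Set G) := by
  apply norm_of_cj_le
  intro y hy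
  rw [mem_cj] at hy
  set v := x⁻¹ * y * x with hv
  have hyv : y = x * v * x⁻¹ := by rw [hv]; group
  have hyU : y ∈ V ⊔ PT.cj j V := by
    rw [hyv]
    exact (mem_normalizer_iff.1 hxU _).1 (mem_sup_left hy)
  have hVW : V ≤ ws V Z := h.one.V_le_W h.one.self
  have hjVW : PT.cj j V ≤ ws V Z := by
    intro w hw
    rw [mem_cj] at hw
    have h2 := h.W_conj (centralizer_le_normalizer _ hj) (hVW hw)
    have e : j * (j⁻¹ * w * j) * j⁻¹ = w := by group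
    rwa [e] at h2
  have hN : V ≤ normalizer ((PT.cj j V : Subgroup G) : Set G) := by
    have h1 : V ≤ centralizer ((PT.cj j V : Subgroup G) : Set G) := fun v hv => mem_centralizer_iff.2 fun w hw =>
      h.one.comm_W h.one.self.cj (hjVW hw) (hVW hv)
    exact h1.trans (centralizer_le_normalizer _)
  obtain ⟨v₁, hv₁, v₂, hv₂, rfl⟩ := mem_sup_norm hN hyU
  obtain ⟨a, b, hab⟩ := (h.mem_V _).1 hy
  obtain ⟨a₁, b₁, rfl⟩ := (h.mem_V _).1 hv₁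
  rw [mem_cj] at hv₂
  obtain ⟨a₂, b₂, hab₂⟩ := (h.mem_V _).1 hv₂
  have e2 : v₂ = j * h.e a₂ b₂ * j⁻¹ := by rw [hab₂]; group
  have h1 := h.rz_fm hx (h.W_V a b)
  rw [h.fm_e a b, map_smul, hxc] at h1
  have hjW := h.W_conj (centralizer_le_normalizer _ hj) (h.W_V a₂ b₂)
  have h2 : h.fm ⟨x * h.e a b * x⁻¹, h.W_conj (centralizer_le_normalizer _ hx) (h.W_V a b)⟩ =
      h.fm (⟨h.e a₁ b₁, h.W_V a₁ b₁⟩ * ⟨j * h.e a₂ b₂ * j⁻¹, hjW⟩) := by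
    congr 1
    apply Subtype.ext
    show x * h.e a b * x⁻¹ = h.e a₁ b₁ * (j * h.e a₂ b₂ * j⁻¹)
    rw [← e2, hab, ← hyv]
  have h3 := h.rz_fm hj (h.W_V a₂ b₂)
  rw [h.fm_e a₂ b₂, map_smul] at h3
  rw [h2, h.fm_mul, h.fm_e a₁ b₁, ← h3] at h1
  have h4 := congrArg f h1
  rw [map_smul, map_smul, hf0, map_add, map_smul, map_smul, hf0, smul_zero, smul_zero, smul_zero, zero_add,
    smul_eq_mul, eq_comm, mul_eq_zero] at h4
  have h5 : b₂ = 0 := h4.resolve_right hfj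
  rw [e2, h5]
  refine mul_mem (h.e_memV _ _) ?_
  have h6 : j * h.e a₂ 0 * j⁻¹ = h.e a₂ 0 := by
    rw [(mem_centralizer_iff.1 hj _ (h.e_memZ a₂)).symm, mul_inv_cancel_right]
  rw [h6]
  exact h.e_memV _ _

/-- **the elements `h_c`** -/
theorem exists_h [Finite F] (htr : ∀ w ∈ ws V Z, ∀ u ∈ ws V h.Yp, w * u * w⁻¹ * u⁻¹ ∈ V)
    {v : centralizer (Z : Set G) → h.MF} {Φ : centralizer (Z : Set G) → AddSubgroup (Module.Dual F h.MF)}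
    (hv : ∀ c, v c = h.rz c h.v0)
    (hΦ : ∀ c φ, φ ∈ Φ c ↔ ∃ a : centralizer (Z : Set G), (a : G) ∈ ws V h.Yp ∧
      ∀ m, h.rz (c * a * c⁻¹) m = m + φ m • v c)
    (Sy : TRp.Sys F v Φ) (hI : TRp.Inj v Φ) {f : Module.Dual F h.MF} (hf : f ∈ Φ 1) (hf0 : f ≠ 0) {c : F} (hc : c ≠ 0) :
    ∃ g, ∃ hg : g ∈ centralizer (Z : Set G), g ∈ normalizer (V : Set G) ∧
      h.rz ⟨g, hg⟩ h.v0 = c • h.v0 ∧ ∀ m, f (h.rz ⟨g, hg⟩ m) = c⁻¹ * f m := by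
  have : Finite h.MF := inferInstance
  have hv1 : v 1 = h.v0 := by rw [hv, map_one]; rfl
  obtain ⟨j, hj⟩ := Sy.exists_hyp hf0
  -- `f₁`, `f_j`
  set f₁ : Module.Dual F h.MF := (f (v j))⁻¹ • f with hf₁
  have hf₁Φ : f₁ ∈ Φ 1 := Sy.smul_mem hI hf _
  have hf₁j : f₁ (v j) = 1 := by rw [hf₁, LinearMap.smul_apply, smul_eq_mul, inv_mul_cancel₀ hj]
  obtain ⟨fj, hfj, hfj1⟩ := Sy.surj hI (Sy.symm ⟨f, hf, hj⟩) 1
  have hf₁0 : f₁ (v 1) = 0 := Sy.self hf₁Φ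
  have hfj0 : fj (v j) = 0 := Sy.self hfj
  have hT : ∀ c : F, ∃ a : centralizer (Z : Set G), (a : G) ∈ ws V h.Yp ∧ ∀ m, h.rz a m = m + (c * f₁ m) • v 1 := by
    intro c
    obtain ⟨a, ha, hae⟩ := (hΦ 1 _).1 (Sy.smul_mem hI hf₁Φ c)
    refine ⟨a, ha, fun m => ?_⟩
    have := hae m
    rwa [one_mul, inv_one, mul_one] at this
  have hS : ∀ c : F, ∃ a : centralizer (Z : Set G), (a : G) ∈ ws V h.Yp ∧
      ∀ m, h.rz (j * a * j⁻¹) m = m + (c * fj m) • v j := by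
    intro c
    obtain ⟨a, ha, hae⟩ := (hΦ j _).1 (Sy.smul_mem hI hfj c)
    exact ⟨a, ha, fun m => hae m⟩
  -- `w(c)`
  have hw : ∀ c : F, c ≠ 0 → ∃ x : centralizer (Z : Set G),
      (x : G) ∈ normalizer ((V ⊔ PT.cj (j : G) V : Subgroup G) : Set G) ∧ h.rz x (v 1) = c⁻¹ • v j ∧
      h.rz x (v j) = c • v 1 ∧ (∀ m, f₁ (h.rz x m) = c⁻¹ * fj m) ∧ ∀ m, fj (h.rz x m) = c * f₁ m := by
    intro c hc
    obtain ⟨t, ht, hte⟩ := hT c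
    obtain ⟨s, hs, hse⟩ := hS c⁻¹
    have h2 : (2 : F) = 0 := CharTwo.two_eq_zero
    have hcc := mul_inv_cancel₀ hc
    have hx : ∀ m, h.rz (t * (j * s * j⁻¹) * t) m = h.rz t (h.rz (j * s * j⁻¹) (h.rz t m)) := fun m => by
      rw [Mix.r_mul, Mix.r_mul]
    have f1T : ∀ m, f₁ (h.rz t m) = f₁ m := fun m => by rw [hte, map_add, map_smul, hf₁0, smul_zero, add_zero]
    have fjT : ∀ m, fj (h.rz t m) = fj m + c * f₁ m := fun m => by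
      rw [hte, map_add, map_smul, hfj1, smul_eq_mul, mul_one]
    have f1S : ∀ m, f₁ (h.rz (j * s * j⁻¹) m) = f₁ m + c⁻¹ * fj m := fun m => by
      rw [hse, map_add, map_smul, hf₁j, smul_eq_mul, mul_one]
    have fjS : ∀ m, fj (h.rz (j * s * j⁻¹) m) = fj m := fun m => by rw [hse, map_add, map_smul, hfj0, smul_zero, add_zero]
    refine ⟨t * (j * s * j⁻¹) * t, ?_, ?_, ?_, fun m => ?_, fun m => ?_⟩
    · have h3 := h.W_norm_sup htr j.2 ht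
      exact mul_mem (mul_mem h3 (h.Wj_norm_sup htr j.2 hs)) h3
    · rw [hx, hte (v 1), hf₁0, mul_zero, zero_smul, add_zero, hse, hfj1, mul_one, map_add, map_smul, hte, hte, hf₁0,
        hf₁j, mul_zero, zero_smul, add_zero, mul_one, smul_add, smul_smul, inv_mul_cancel₀ hc, one_smul]
      have h4 : v 1 + v 1 = 0 := TRp.add_self_mod (F := F) (v 1)
      rw [add_comm (c⁻¹ • v j), ← add_assoc, h4, zero_add]
    · rw [hx, hte (v j), hf₁j, mul_one, map_add, map_smul, hse, hse, hfj0, hfj1, mul_zero, zero_smul, add_zero, mul_one,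
        smul_add, smul_smul, hcc, one_smul]
      have h4 : v j + v j = 0 := TRp.add_self_mod (F := F) (v j)
      rw [add_comm (c • v 1), ← add_assoc, h4, zero_add, map_smul, hte, hf₁0, mul_zero, zero_smul, add_zero]
    · rw [hx, f1T, f1S, f1T, fjT]
      linear_combination (f₁ m) * hcc + (f₁ m) * h2
    · rw [hx, fjT, fjS, f1S, f1T, fjT]
      linear_combination (fj m + c * f₁ m) * hcc + (fj m + c * f₁ m) * h2
  obtain ⟨x, hxU, hx1, hxj, hxf, hxfj⟩ := hw c hc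
  obtain ⟨y, hyU, hy1, hyj, hyf, hyfj⟩ := hw 1 one_ne_zero
  have hxy : h.rz (x * y) h.v0 = c • h.v0 := by
    rw [← hv1, Mix.r_mul, hy1, inv_one, one_smul, hxj]
  refine ⟨(x : G) * y, (x * y).2, ?_, hxy, fun m => ?_⟩
  · refine h.norm_of_scal (x * y).2 j.2 (mul_mem hxU hyU) hxy (f := f₁) (by rw [← hv1]; exact hf₁0) ?_
    have h3 : h.rz ⟨(j : G), j.2⟩ h.v0 = v j := (hv j).symm
    rw [h3, hf₁j]
    exact one_ne_zero
  · have h3 : f₁ (h.rz (x * y) m) = c⁻¹ * f₁ m := by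
      rw [Mix.r_mul, hxf, hyfj, one_mul]
    rw [hf₁, LinearMap.smul_apply, LinearMap.smul_apply, smul_eq_mul, smul_eq_mul] at h3
    refine mul_left_cancel₀ (inv_ne_zero hj) ?_
    show (f (v j))⁻¹ * f (h.rz (x * y) m) = _
    rw [h3]
    ring

end Co

end Cfsg.Agent.Omega.NO3S.OneQ

end
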